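import Mathlib
import Groth.Agent.H06Unram.AdaptedCoords
import Groth.Agent.S3713

/-! # Étale coordinates adapted to a smooth closed subscheme -/

set_option autoImplicit false

open CategoryTheory CategoryTheory.Limits AlgebraicGeometry TensorProduct

universe u

namespace Groth.Agent.H14SmSec

/-- A finitely generated ideal has, at a prime, generators as many as the dimension of its fibre. -/
theorem exists_minimal_generators {B : Type u} [CommRing B] (J : Ideal B) (hJ : J.FG) (q : Ideal B) [q.IsPrime] :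
    ∃ (r : ℕ) (g : Fin r → B), (∀ i, g i ∈ J) ∧
      J.map (algebraMap B (Localization.AtPrime q)) =
        Ideal.span (Set.range fun i => algebraMap B (Localization.AtPrime q) (g i)) ∧
      r = Module.finrank q.ResidueField (q.ResidueField ⊗[B] J) := by
  haveI : Module.Finite B J := Module.Finite.of_fg hJ
  let k := q.ResidueField
  let S : Set (k ⊗[B] J) := Set.range fun x : J => (1 : k) ⊗ₜ[B] x
  have hS : Submodule.span k S = ⊤ := by
    refine eq_top_iff.2 fun z _ => ?_
    induction z with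
    | zero => exact zero_mem _
    | add a b ha hb => exact add_mem (ha trivial) (hb trivial)
    | tmul c x =>
      rw [← mul_one c, ← smul_eq_mul, ← TensorProduct.smul_tmul']
      exact Submodule.smul_mem _ _ (Submodule.subset_span ⟨x, rfl⟩)
  obtain ⟨f, hfS, hfspan, -⟩ := Submodule.exists_fun_fin_finrank_span_eq k S
  choose g hg using hfS
  let N : Submodule B J := Submodule.span B (Set.range g)
  have hsub : Subsingleton (k ⊗[B] (J ⧸ N)) := by
    refine subsingleton_of_forall_eq 0 fun z => ?_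
    obtain ⟨y, rfl⟩ := LinearMap.lTensor_surjective k N.mkQ_surjective z
    have hy : y ∈ Submodule.span k (Set.range f) := by rw [hfspan, hS]; trivial
    change N.mkQ.baseChange k y = 0
    rw [← LinearMap.mem_ker]
    refine Submodule.span_le.2 ?_ hy
    rintro _ ⟨i, rfl⟩
    rw [SetLike.mem_coe, LinearMap.mem_ker, ← hg i]
    change (1 : k) ⊗ₜ[B] N.mkQ (g i) = 0
    rw [Submodule.mkQ_apply, (Submodule.Quotient.mk_eq_zero N).2 (Submodule.subset_span ⟨i, rfl⟩),
      TensorProduct.tmul_zero]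
  have hns : (⟨q, inferInstance⟩ : PrimeSpectrum B) ∉ Module.support B (J ⧸ N) := by
    rw [Module.mem_support_iff_nontrivial_residueField_tensorProduct]
    exact not_nontrivial_iff_subsingleton.2 hsub
  refine ⟨Module.finrank k (Submodule.span k S), fun i => (g i : B), fun i => (g i).2, ?_, ?_⟩
  · refine le_antisymm (Ideal.map_le_iff_le_comap.2 fun x hx => ?_)
      (Ideal.span_le.2 ?_)
    · obtain ⟨s, hs, hsx⟩ := Module.notMem_support_iff'.1 hns (N.mkQ ⟨x, hx⟩)
      rw [← map_smul, Submodule.mkQ_apply, Submodule.Quotient.mk_eq_zero] at hsx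
      have h : (s * x : B) ∈ Ideal.span (Set.range fun i => (g i : B)) := by
        have := Submodule.mem_map_of_mem (f := J.subtype) hsx
        rw [Submodule.map_span, ← Set.range_comp] at this
        exact this
      have h' := Ideal.mem_map_of_mem (algebraMap B (Localization.AtPrime q)) h
      rw [Ideal.map_span, ← Set.range_comp, map_mul] at h'
      exact (Ideal.unit_mul_mem_iff_mem _
        (IsLocalization.map_units (Localization.AtPrime q) (⟨s, hs⟩ : q.primeCompl))).1 h'
    · rintro _ ⟨i, rfl⟩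
      exact Ideal.mem_map_of_mem _ (g i).2
  · rw [hS, finrank_top]

/-- A morphism to an affine scheme killing the ideal of an affine closed subscheme factors through it. -/
theorem exists_lift_affine {T U Z : Scheme.{u}} [IsAffine U] [IsAffine Z] (j : Z ⟶ U)
    [IsClosedImmersion j] (b : T ⟶ U) (hb : RingHom.ker j.appTop.hom ≤ RingHom.ker b.appTop.hom) :
    ∃ t : T ⟶ Z, t ≫ j = b := by
  have hsurj : Function.Surjective j.appTop.hom := j.app_surjective ⊤ (isAffineOpen_top U)
  let φ : Γ(Z, ⊤) ⟶ Γ(T, ⊤) := CommRingCat.ofHom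
    (RingHom.liftOfSurjective j.appTop.hom hsurj ⟨b.appTop.hom, hb⟩)
  have hφ : j.appTop ≫ φ = b.appTop := CommRingCat.hom_ext (RingHom.liftOfRightInverse_comp _ _ _ _)
  refine ⟨T.toSpecΓ ≫ Spec.map φ ≫ Z.isoSpec.inv, ?_⟩
  rw [Category.assoc, Category.assoc, ← Scheme.isoSpec_inv_naturality, ← Spec.map_comp_assoc, hφ,
    ← Scheme.toSpecΓ_naturality_assoc, ← Scheme.isoSpec_hom, Iso.hom_inv_id, Category.comp_id]

/-- A closed immersion of affine schemes whose ideal is generated by some coordinates of a morphism to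
affine space is the pullback of the subspace where these coordinates vanish. -/
theorem isPullback_coordinateSubspace {S U Z : Scheme.{u}} [IsAffine U] [IsAffine Z] (j : Z ⟶ U)
    [IsClosedImmersion j] (h : U ⟶ S) {α β : Type} (c : ULift.{u} (α ⊕ β) → Γ(U, ⊤))
    (hker : RingHom.ker j.appTop.hom = Ideal.span (Set.range fun b : β => c ⟨Sum.inr b⟩)) :
    IsPullback (AffineSpace.homOfVector (j ≫ h) fun a : ULift.{u} α => j.appTop (c ⟨Sum.inl a.down⟩)) j
      (AffineSpace.homOfVector (𝔸(ULift.{u} α; S) ↘ S)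
        (fun t : ULift.{u} (α ⊕ β) => Sum.elim (fun a => AffineSpace.coord S (ULift.up a)) (fun _ => 0) t.down))
      (AffineSpace.homOfVector h c) := by
  have hj0 : ∀ b, j.appTop (c ⟨Sum.inr b⟩) = 0 := fun b =>
    RingHom.mem_ker.1 (hker.ge (Ideal.subset_span ⟨b, rfl⟩))
  have hcs : CommSq (AffineSpace.homOfVector (j ≫ h) fun a : ULift.{u} α => j.appTop (c ⟨Sum.inl a.down⟩)) j
      (AffineSpace.homOfVector (𝔸(ULift.{u} α; S) ↘ S)
        (fun t : ULift.{u} (α ⊕ β) => Sum.elim (fun a => AffineSpace.coord S (ULift.up a)) (fun _ => 0) t.down))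
      (AffineSpace.homOfVector h c) := ⟨by
    refine AffineSpace.hom_ext ?_ fun t => ?_
    · simp only [Category.assoc, AffineSpace.homOfVector_over]
    · rw [Scheme.Hom.comp_appTop, CommRingCat.comp_apply, Scheme.Hom.comp_appTop, CommRingCat.comp_apply,
        AffineSpace.homOfVector_appTop_coord, AffineSpace.homOfVector_appTop_coord]
      rcases t with ⟨a | b⟩
      · exact AffineSpace.homOfVector_appTop_coord _ _ (ULift.up a)
      · exact (map_zero _).trans (hj0 b).symm⟩
  have hcoord : ∀ (s : PullbackCone (AffineSpace.homOfVector (𝔸(ULift.{u} α; S) ↘ S)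
        (fun t : ULift.{u} (α ⊕ β) => Sum.elim (fun a => AffineSpace.coord S (ULift.up a)) (fun _ => 0) t.down))
      (AffineSpace.homOfVector h c)) (t : α ⊕ β),
      s.fst.appTop (Sum.elim (fun a => AffineSpace.coord S (ULift.up a)) (fun _ => 0) t) =
        s.snd.appTop (c ⟨t⟩) := fun s t => by
    have hb := congr($(s.condition).appTop (AffineSpace.coord S (ULift.up t)))
    rwa [Scheme.Hom.comp_appTop, CommRingCat.comp_apply, Scheme.Hom.comp_appTop, CommRingCat.comp_apply,
      AffineSpace.homOfVector_appTop_coord, AffineSpace.homOfVector_appTop_coord] at hb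
  have hlift : ∀ s : PullbackCone (AffineSpace.homOfVector (𝔸(ULift.{u} α; S) ↘ S)
        (fun t : ULift.{u} (α ⊕ β) => Sum.elim (fun a => AffineSpace.coord S (ULift.up a)) (fun _ => 0) t.down))
      (AffineSpace.homOfVector h c), ∃ t, t ≫ j = s.snd := fun s => by
    refine exists_lift_affine j s.snd ?_
    rw [hker, Ideal.span_le]
    rintro _ ⟨b, rfl⟩
    exact RingHom.mem_ker.2 ((hcoord s (Sum.inr b)).symm.trans (map_zero _))
  choose l hl using hlift
  refine ⟨hcs, ⟨PullbackCone.IsLimit.mk _ l (fun s => ?_) hl (fun s m _ hm₂ => ?_)⟩⟩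
  · refine AffineSpace.hom_ext ?_ fun a => ?_
    · rw [Category.assoc, AffineSpace.homOfVector_over, reassoc_of% (hl s)]
      have hb := s.condition =≫ (𝔸(ULift.{u} (α ⊕ β); S) ↘ S)
      simp only [Category.assoc, AffineSpace.homOfVector_over] at hb
      exact hb.symm
    · rw [Scheme.Hom.comp_appTop, CommRingCat.comp_apply, AffineSpace.homOfVector_appTop_coord,
        ← CommRingCat.comp_apply, ← Scheme.Hom.comp_appTop, hl s]
      exact (hcoord s (Sum.inl a.down)).symm
  · rw [← cancel_mono j, hm₂, hl]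

/-- A smooth closed subscheme of a smooth scheme is, locally, a coordinate subspace of an affine space
up to an étale map. -/
theorem exists_adapted_chart {S X Y : Scheme.{u}} (pX : X ⟶ S) (pY : Y ⟶ S) [Smooth pX] [Smooth pY]
    (i : Y ⟶ X) [IsClosedImmersion i] (w : i ≫ pX = pY) (y : Y) :
    ∃ (U : X.Opens) (m n : ℕ) (π : (U : Scheme.{u}) ⟶ 𝔸(ULift.{u} (Fin m ⊕ Fin n); S)) (ρ : (↑(i ⁻¹ᵁ U) : Scheme.{u}) ⟶ 𝔸(ULift.{u} (Fin m); S)),
      i y ∈ U ∧ Etale π ∧ π ≫ (𝔸(ULift.{u} (Fin m ⊕ Fin n); S) ↘ S) = U.ι ≫ pX ∧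
      IsPullback ρ (i ∣_ U)
        (AffineSpace.homOfVector (𝔸(ULift.{u} (Fin m); S) ↘ S)
          (fun j : ULift.{u} (Fin m ⊕ Fin n) => Sum.elim (fun a => AffineSpace.coord S (ULift.up a)) (fun _ => 0) j.down))
        π := by
  subst w
  obtain ⟨W, hW, hyW, -⟩ := TopologicalSpace.Opens.isBasis_iff_nbhd.mp S.isBasis_affineOpens
    (TopologicalSpace.Opens.mem_top (pX (i y)))
  obtain ⟨V, hV, hyV, hVW⟩ := TopologicalSpace.Opens.isBasis_iff_nbhd.mp X.isBasis_affineOpens
    (show i y ∈ pX ⁻¹ᵁ W from hyW)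
  have hV' : IsAffineOpen (i ⁻¹ᵁ V) := hV.preimage i
  letI : Algebra Γ(S, W) Γ(X, V) := (pX.appLE W V hVW).hom.toAlgebra
  haveI : Algebra.Smooth Γ(S, W) Γ(X, V) :=
    HasRingHomProperty.appLE @Smooth pX inferInstance ⟨W, hW⟩ ⟨V, hV⟩ hVW
  letI : Algebra Γ(X, V) Γ(Y, i ⁻¹ᵁ V) := (i.app V).hom.toAlgebra
  letI : Algebra Γ(S, W) Γ(Y, i ⁻¹ᵁ V) := ((i.app V).hom.comp (pX.appLE W V hVW).hom).toAlgebra
  haveI : IsScalarTower Γ(S, W) Γ(X, V) Γ(Y, i ⁻¹ᵁ V) := IsScalarTower.of_algebraMap_eq' rfl
  haveI : Algebra.Smooth Γ(S, W) Γ(Y, i ⁻¹ᵁ V) := by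
    have := HasRingHomProperty.appLE @Smooth (i ≫ pX) inferInstance ⟨W, hW⟩ ⟨i ⁻¹ᵁ V, hV'⟩
      (fun z hz => hVW hz)
    rw [← Scheme.Hom.appLE_comp_appLE i pX W V (i ⁻¹ᵁ V) hVW le_rfl, ← Scheme.Hom.app_eq_appLE] at this
    exact this
  let φ : Γ(X, V) →ₐ[Γ(S, W)] Γ(Y, i ⁻¹ᵁ V) := IsScalarTower.toAlgHom _ _ _
  have hφ : Function.Surjective φ := i.app_surjective V hV
  let J : Ideal Γ(X, V) := RingHom.ker φ.toRingHom
  have hJ : J.FG := Algebra.FinitePresentation.ker_fG_of_surjective φ hφ
  let e : (Γ(X, V) ⧸ J) ≃ₐ[Γ(S, W)] Γ(Y, i ⁻¹ᵁ V) := Ideal.quotientKerAlgEquivOfSurjective hφ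
  haveI : Algebra.Smooth Γ(S, W) (Γ(X, V) ⧸ J) := Algebra.Smooth.of_equiv e.symm
  let q := (hV.primeIdealOf ⟨i y, hyV⟩).asIdeal
  have hmem : ∀ f : Γ(X, V), f ∈ q ↔ i y ∉ X.basicOpen f := fun f => by
    have h1 : hV.fromSpec (hV.primeIdealOf ⟨i y, hyV⟩) = i y := hV.fromSpec_primeIdealOf _
    have h2 : hV.primeIdealOf ⟨i y, hyV⟩ ∈ hV.fromSpec ⁻¹ᵁ X.basicOpen f ↔ i y ∈ X.basicOpen f := by
      change hV.fromSpec (hV.primeIdealOf ⟨i y, hyV⟩) ∈ X.basicOpen f ↔ _
      rw [h1]
    rw [hV.fromSpec_preimage_basicOpen] at h2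
    rw [← h2]
    exact not_not.symm
  have hJq : J ≤ q := fun f hf => by
    rw [hmem]
    intro hy
    have h : y ∈ Y.basicOpen (i.app V f) := by rwa [← Scheme.preimage_basicOpen]
    rw [show i.app V f = 0 from hf, Scheme.basicOpen_zero] at h
    exact h
  let Q : Ideal (Γ(X, V) ⧸ J) := q.map (Ideal.Quotient.mk J)
  haveI : Q.IsPrime := Ideal.map_isPrime_of_surjective Ideal.Quotient.mk_surjective (by rwa [Ideal.mk_ker])
  have hQ : Q.comap (Ideal.Quotient.mk J) = q := by
    rw [Ideal.comap_map_of_surjective _ Ideal.Quotient.mk_surjective, ← RingHom.ker_eq_comap_bot,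
      Ideal.mk_ker, sup_of_le_left hJq]
  haveI : Algebra.IsSmoothAt Γ(S, W) q := by
    haveI : Algebra.FormallySmooth Γ(X, V) (Localization.AtPrime q) :=
      Algebra.FormallySmooth.of_isLocalization q.primeCompl
    exact Algebra.FormallySmooth.comp Γ(S, W) Γ(X, V) _
  haveI : Algebra.IsSmoothAt Γ(S, W) Q := by
    haveI : Algebra.FormallySmooth (Γ(X, V) ⧸ J) (Localization.AtPrime Q) :=
      Algebra.FormallySmooth.of_isLocalization Q.primeCompl
    exact Algebra.FormallySmooth.comp Γ(S, W) (Γ(X, V) ⧸ J) _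
  obtain ⟨r, g, hg, hgen, hmin⟩ := exists_minimal_generators J hJ q
  obtain ⟨f, hf, m, g', het, hJf⟩ :=
    Groth.Agent.H06Unram.AdaptedCoords.exists_coordinates (A := Γ(S, W)) hJ hJq hQ hg hgen hmin
  let U := X.basicOpen f
  have hU : IsAffineOpen U := hV.basicOpen f
  have hUV : U ≤ V := X.basicOpen_le f
  have hyU : i y ∈ U := by by_contra h; exact hf ((hmem f).2 h)
  letI : Algebra Γ(X, V) Γ(X, U) := (X.presheaf.map (homOfLE hUV).op).hom.toAlgebra
  haveI : IsLocalization.Away f Γ(X, U) := hV.isLocalization_basicOpen f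
  let L : Localization.Away f ≃ₐ[Γ(X, V)] Γ(X, U) :=
    IsLocalization.algEquiv (Submonoid.powers f) _ _
  let c₀ : ULift.{u} (Fin m ⊕ Fin r) → Γ(X, U) := fun t =>
    Sum.elim (fun a => L (g' a)) (fun b => algebraMap Γ(X, V) Γ(X, U) (g b)) t.down
  let c : ULift.{u} (Fin m ⊕ Fin r) → Γ((U : Scheme.{u}), ⊤) := fun t => U.topIso.inv (c₀ t)
  have hker : RingHom.ker (i ∣_ U).appTop.hom =
      Ideal.span (Set.range fun b : Fin r => c ⟨Sum.inr b⟩) := by
    have hm : J.map (algebraMap Γ(X, V) Γ(X, U)) =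
        Ideal.span (Set.range fun b : Fin r => algebraMap Γ(X, V) Γ(X, U) (g b)) := by
      have := congrArg (Ideal.map L.toRingEquiv.toRingHom) hJf
      rw [Ideal.map_map, Ideal.map_span, ← Set.range_comp] at this
      convert this using 3
      · exact (RingHom.ext fun x => (L.commutes x).symm)
      · exact funext fun b => (L.commutes (g b)).symm
    have hk : RingHom.ker (i.app U).hom = J.map (algebraMap Γ(X, V) Γ(X, U)) := by
      apply le_antisymm
      · intro z hz
        obtain ⟨⟨b, ⟨_, k, rfl⟩⟩, hb⟩ := IsLocalization.surj (Submonoid.powers f) z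
        change z * algebraMap Γ(X, V) Γ(X, U) (f ^ k) = algebraMap Γ(X, V) Γ(X, U) b at hb
        have h0 : (i.app U).hom (algebraMap Γ(X, V) Γ(X, U) b) = 0 := by
          rw [← hb, map_mul, RingHom.mem_ker.1 hz, zero_mul]
        have hle : i ⁻¹ᵁ U ≤ i ⁻¹ᵁ V := i.preimage_mono hUV
        have hb' : (Y.presheaf.map (homOfLE hle).op).hom ((i.app V).hom b) = 0 := by
          rw [← h0]
          exact congr($(i.naturality (homOfLE hUV).op).hom b).symm
        letI : Algebra Γ(Y, i ⁻¹ᵁ V) Γ(Y, i ⁻¹ᵁ U) := (Y.presheaf.map (homOfLE hle).op).hom.toAlgebra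
        haveI : IsLocalization.Away ((i.app V).hom f) Γ(Y, i ⁻¹ᵁ U) :=
          hV'.isLocalization_of_eq_basicOpen (f := (i.app V).hom f) (homOfLE hle) (Scheme.preimage_basicOpen i f)
        obtain ⟨⟨_, l, rfl⟩, hl⟩ := (IsLocalization.map_eq_zero_iff
          (Submonoid.powers ((i.app V).hom f)) Γ(Y, i ⁻¹ᵁ U) ((i.app V).hom b)).1 hb'
        have hbJ : f ^ l * b ∈ J := RingHom.mem_ker.2 (by
          change (i.app V).hom (f ^ l * b) = 0
          rw [map_mul, map_pow]; exact hl)
        have := Ideal.mem_map_of_mem (algebraMap Γ(X, V) Γ(X, U)) hbJ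
        rw [map_mul, ← hb, mul_left_comm, ← map_mul, ← pow_add,
          Ideal.mul_unit_mem_iff_mem _ (IsLocalization.map_units Γ(X, U)
            (⟨f ^ (l + k), l + k, rfl⟩ : Submonoid.powers f))] at this
        exact this
      · rw [Ideal.map_le_iff_le_comap]
        intro x hx
        rw [Ideal.mem_comap, RingHom.mem_ker]
        exact congr($(i.naturality (homOfLE hUV).op).hom x).trans
          (by rw [CommRingCat.hom_comp, RingHom.comp_apply, show (i.app V).hom x = 0 from hx, map_zero])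
    have hres : (i ∣_ U).appTop = U.topIso.hom ≫ i.app U ≫ (i ⁻¹ᵁ U).topIso.inv := by
      rw [Scheme.Hom.appTop, morphismRestrict_app]
      simp [Scheme.Opens.topIso, Scheme.Hom.naturality_assoc, ← Functor.map_comp]
      rw [Scheme.Hom.app_eq_appLE, Scheme.Hom.app_eq_appLE, Scheme.Hom.appLE_map]
      exact (Groth.Agent.S3713.appLE_conj i _ _ _ _).symm
    have h1 : RingHom.ker (i ∣_ U).appTop.hom =
        (RingHom.ker (i.app U).hom).map U.topIso.commRingCatIsoToRingEquiv.symm.toRingHom := by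
      have hz : ∀ z, (i ∣_ U).appTop.hom z =
          (i ⁻¹ᵁ U).topIso.inv.hom ((i.app U).hom (U.topIso.hom.hom z)) := fun z => by rw [hres]; rfl
      ext z
      constructor
      · intro h
        have h' : U.topIso.hom.hom z ∈ RingHom.ker (i.app U).hom := by
          rw [RingHom.mem_ker]
          refine (i ⁻¹ᵁ U).topIso.commRingCatIsoToRingEquiv.symm.injective ?_
          rw [map_zero]
          exact (hz z).symm.trans h
        have h'' := Ideal.mem_map_of_mem U.topIso.commRingCatIsoToRingEquiv.symm.toRingHom h'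
        convert h''
        exact (U.topIso.commRingCatIsoToRingEquiv.symm_apply_apply z).symm
      · intro h
        obtain ⟨x, hx, rfl⟩ := (Ideal.mem_map_iff_of_surjective _
          U.topIso.commRingCatIsoToRingEquiv.symm.surjective).1 h
        rw [RingHom.mem_ker]
        refine (hz _).trans ?_
        rw [show U.topIso.hom.hom (U.topIso.commRingCatIsoToRingEquiv.symm x) = x from
          U.topIso.commRingCatIsoToRingEquiv.apply_symm_apply x, RingHom.mem_ker.1 hx, map_zero]
    rw [h1, hk, hm, Ideal.map_span, ← Set.range_comp]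
    rfl
  haveI : IsAffine (U : Scheme.{u}) := hU
  haveI : IsAffine (Scheme.Opens.toScheme W) := hW
  haveI : IsAffine (i ⁻¹ᵁ U).toScheme := hU.preimage i
  have hUW : U ≤ pX ⁻¹ᵁ W := hUV.trans hVW
  have hπ : Etale (AffineSpace.homOfVector (U.ι ≫ pX) c) := by
    have hfac : AffineSpace.homOfVector (U.ι ≫ pX) c =
        AffineSpace.homOfVector (pX.resLE W U hUW) c ≫ AffineSpace.map _ (Scheme.Opens.ι W) := by
      refine AffineSpace.hom_ext ?_ fun t => ?_
      · simp
      · rw [Scheme.Hom.comp_appTop, CommRingCat.comp_apply, AffineSpace.map_appTop_coord,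
          AffineSpace.homOfVector_appTop_coord, AffineSpace.homOfVector_appTop_coord]
    haveI : IsOpenImmersion (AffineSpace.map (ULift.{u} (Fin m ⊕ Fin r)) (Scheme.Opens.ι W)) :=
      MorphismProperty.of_isPullback (P := @IsOpenImmersion) (AffineSpace.isPullback_map (Scheme.Opens.ι W)).flip inferInstance
    haveI : Etale (AffineSpace.homOfVector (pX.resLE W U hUW) c) := by
      refine Groth.Agent.S3713.etale_homOfVector _ _ ?_
      have hr : (pX.resLE W U hUW).appTop.hom = (U.topIso.inv.hom.comp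
          ((algebraMap Γ(X, V) Γ(X, U)).comp (algebraMap Γ(S, W) Γ(X, V)))).comp (Scheme.Opens.topIso W).hom.hom := by
        change _ = ((Scheme.Opens.topIso W).hom ≫ (pX.appLE W V hVW ≫ X.presheaf.map (homOfLE hUV).op) ≫ U.topIso.inv).hom
        rw [Scheme.Hom.appLE_map]
        congr 1
        simp [Scheme.Hom.resLE_appLE, ← Scheme.Hom.appLE_eq_app, Scheme.Opens.topIso]
        exact (Groth.Agent.S3713.appLE_conj pX _ _ _ _).symm
      let σ : ULift.{u} (Fin m ⊕ Fin r) ≃ Fin r ⊕ Fin m := Equiv.ulift.trans (Equiv.sumComm _ _)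
      let θ := U.topIso.commRingCatIsoToRingEquiv.symm
      let ω := (Scheme.Opens.topIso W).commRingCatIsoToRingEquiv
      let E : MvPolynomial (ULift.{u} (Fin m ⊕ Fin r)) Γ((Scheme.Opens.toScheme W), ⊤) ≃+*
          MvPolynomial (Fin r ⊕ Fin m) Γ(S, W) :=
        (MvPolynomial.mapEquiv _ ω).trans (MvPolynomial.renameEquiv Γ(S, W) σ).toRingEquiv
      let a := (MvPolynomial.aeval (Sum.elim (fun b => algebraMap Γ(X, V) (Localization.Away f) (g b)) g') :
        MvPolynomial (Fin r ⊕ Fin m) Γ(S, W) →ₐ[Γ(S, W)] Localization.Away f).toRingHom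
      have heq : MvPolynomial.eval₂Hom (pX.resLE W U hUW).appTop.hom c =
          (θ.toRingHom.comp (L.toRingEquiv.toRingHom.comp a)).comp E.toRingHom := by
        refine MvPolynomial.ringHom_ext (fun x => ?_) fun t => ?_
        · rw [MvPolynomial.eval₂Hom_C, hr]
          have hE : E (MvPolynomial.C x) = MvPolynomial.C (ω x) := by simp [E]
          change θ (algebraMap Γ(X, V) Γ(X, U) (algebraMap Γ(S, W) Γ(X, V) (ω x))) =
            θ (L (a (E (MvPolynomial.C x))))
          rw [hE, show a (MvPolynomial.C (ω x)) = algebraMap Γ(S, W) (Localization.Away f) (ω x) from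
            MvPolynomial.aeval_C _ _, IsScalarTower.algebraMap_apply Γ(S, W) Γ(X, V) (Localization.Away f),
            L.commutes]
        · rw [MvPolynomial.eval₂Hom_X']
          have hE : E (MvPolynomial.X t) = MvPolynomial.X (σ t) := by simp [E]
          change θ (c₀ t) = θ (L (a (E (MvPolynomial.X t))))
          rw [hE, show a (MvPolynomial.X (σ t)) = _ from MvPolynomial.aeval_X _ _]
          rcases t with ⟨b | b⟩
          · rfl
          · exact congrArg θ (L.commutes (g b)).symm
      rw [heq]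
      exact RingHom.Etale.stableUnderComposition _ _ (RingHom.Etale.of_bijective E.bijective)
        (RingHom.Etale.stableUnderComposition _ _
          (RingHom.Etale.stableUnderComposition _ _ het (RingHom.Etale.of_bijective L.toRingEquiv.bijective))
          (RingHom.Etale.of_bijective θ.bijective))
    rw [hfac]
    infer_instance
  exact ⟨U, m, r, _, _, hyU, hπ, AffineSpace.homOfVector_over _ _,
    isPullback_coordinateSubspace (i ∣_ U) (U.ι ≫ pX) c hker⟩

end Groth.Agent.H14SmSec
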