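import Mathlib

/-! # Smoothness of a closed subscheme along a section -/

set_option autoImplicit false

open TensorProduct KaehlerDifferential IsLocalRing

universe u

namespace Groth.Agent.H14SmSec

variable (R A : Type u) [CommRing R] [CommRing A] [Algebra R A]

/-- A linear form on the differentials extending a given linear map on an ideal inside the kernel of a
section whose conormal module splits. -/
theorem exists_ext [Algebra.FormallySmooth R A] (ε : A →ₐ[R] R) (J : Ideal A)
    (hJI : J ≤ RingHom.ker ε) (h2 : J ⊓ RingHom.ker ε ^ 2 = RingHom.ker ε * J)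
    (h3 : Module.Projective R (↥(RingHom.ker ε) ⧸
      Submodule.comap (RingHom.ker ε).subtype (J ⊔ RingHom.ker ε ^ 2)))
    {T : Type u} [AddCommGroup T] [Module A T] (φ : J →ₗ[A] T)
    (hT : ∀ a ∈ RingHom.ker ε, ∀ t : T, a • t = 0) :
    ∃ lam : Ω[A⁄R] →ₗ[A] T, ∀ j : J, lam (D R A j) = φ j := by
  letI : Algebra A R := ε.toRingHom.toAlgebra
  haveI : IsScalarTower R A R := IsScalarTower.of_algebraMap_eq fun r => (ε.commutes r).symm
  have hsurj : Function.Surjective (algebraMap A R) := fun r => ⟨algebraMap R A r, ε.commutes r⟩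
  have hfs : Algebra.FormallySmooth R R := inferInstance
  obtain ⟨l, hl⟩ := (Algebra.FormallySmooth.iff_split_injection (R := R) (P := A) hsurj).1 hfs
  have hred : ∀ (M : Type u) [AddCommGroup M] [Module A M] [Module R M] [IsScalarTower R A M],
      (∀ a ∈ RingHom.ker ε, ∀ m : M, a • m = 0) → ∀ (a : A) (m : M), a • m = ε a • m := by
    intro M _ _ _ _ hM a m
    have hmem : a - algebraMap R A (ε a) ∈ RingHom.ker ε := by
      rw [RingHom.mem_ker, map_sub, AlgHom.commutes]; exact sub_self _
    have := hM _ hmem m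
    rwa [sub_smul, sub_eq_zero, IsScalarTower.algebraMap_smul] at this
  let I : Ideal A := RingHom.ker ε
  let N : Submodule A I := Submodule.comap I.subtype (J ⊔ I ^ 2)
  haveI : Module.Projective R (↥I ⧸ N) := h3
  have hle : I • (⊤ : Submodule A I) ≤ LinearMap.ker N.mkQ := by
    intro x hx
    rw [Submodule.ker_mkQ, Submodule.mem_comap]
    apply Submodule.mem_sup_right
    have := Submodule.mem_map_of_mem (f := I.subtype) hx
    rw [Submodule.map_smul'', Submodule.map_subtype_top] at this
    rwa [sq]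
  let π : I.Cotangent →ₗ[A] ↥I ⧸ N := Submodule.liftQ _ N.mkQ hle
  have hπ : ∀ x : I, π (I.toCotangent x) = N.mkQ x := fun x => rfl
  have hπs : Function.Surjective π := fun y => by
    obtain ⟨x, rfl⟩ := N.mkQ_surjective y
    exact ⟨I.toCotangent x, rfl⟩
  obtain ⟨σ, hσ⟩ := Module.projective_lifting_property (π.restrictScalars R) LinearMap.id hπs
  have hC : ∀ a ∈ RingHom.ker ε, ∀ m : I.Cotangent, a • m = 0 := fun a ha m => by
    obtain ⟨x, rfl⟩ := I.toCotangent_surjective m
    rw [← map_smul, Ideal.toCotangent_eq_zero, sq]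
    exact Ideal.mul_mem_mul ha x.2
  have hQ : ∀ a ∈ RingHom.ker ε, ∀ q : ↥I ⧸ N, a • q = 0 := fun a ha q => by
    obtain ⟨x, rfl⟩ := hπs q
    rw [← map_smul, hC a ha, map_zero]
  let e : J →ₗ[A] I.Cotangent := I.toCotangent.comp (Submodule.inclusion hJI)
  have hker : LinearMap.ker e.rangeRestrict ≤ LinearMap.ker φ := by
    intro j hj
    rw [LinearMap.ker_rangeRestrict, LinearMap.mem_ker, LinearMap.comp_apply,
      Ideal.toCotangent_eq_zero] at hj
    have hj' : (j : A) ∈ I * J := by rw [← h2]; exact ⟨j.2, hj⟩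
    have : (I • (⊤ : Submodule A J)) ≤ LinearMap.ker φ := by
      rw [Submodule.smul_le]
      intro a ha x _
      rw [LinearMap.mem_ker, map_smul, hT a ha]
    refine this ?_
    rw [← Submodule.comap_map_eq_of_injective (f := J.subtype) J.injective_subtype (I • ⊤),
      Submodule.mem_comap, Submodule.map_smul'', Submodule.map_subtype_top]
    exact hj'
  obtain ⟨φ', hφ'⟩ : ∃ φ' : LinearMap.range e →ₗ[A] T, ∀ j, φ' (e.rangeRestrict j) = φ j :=
    ⟨(Submodule.liftQ _ φ hker).comp
      (e.rangeRestrict.quotKerEquivOfSurjective e.surjective_rangeRestrict).symm.toLinearMap,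
      fun j => by
        rw [LinearMap.comp_apply, LinearEquiv.coe_coe,
          show (e.rangeRestrict.quotKerEquivOfSurjective e.surjective_rangeRestrict).symm
            (e.rangeRestrict j) = Submodule.Quotient.mk j from
          (LinearEquiv.symm_apply_eq _).2 rfl, Submodule.liftQ_apply]⟩
  have hmem : ∀ x : I.Cotangent, x - σ (π x) ∈ LinearMap.range e := by
    intro x
    have h0 : π (x - σ (π x)) = 0 := by
      rw [map_sub, show π (σ (π x)) = π x from LinearMap.congr_fun hσ (π x), sub_self]
    obtain ⟨y, hy⟩ := I.toCotangent_surjective (x - σ (π x))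
    rw [← hy, hπ, Submodule.mkQ_apply, Submodule.Quotient.mk_eq_zero, Submodule.mem_comap,
      Submodule.mem_sup] at h0
    obtain ⟨j, hj, z, hz, hjz⟩ := h0
    refine ⟨⟨j, hj⟩, ?_⟩
    rw [← hy, LinearMap.comp_apply, Ideal.toCotangent_eq]
    change j - (y : A) ∈ I ^ 2
    have : j - (y : A) = -z := by
      rw [eq_neg_iff_add_eq_zero, sub_add_eq_add_sub, hjz]; exact sub_self _
    rw [this]
    exact neg_mem hz
  let p : I.Cotangent →ₗ[A] LinearMap.range e :=
    { toFun := fun x => ⟨x - σ (π x), hmem x⟩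
      map_add' := fun x y => Subtype.ext (by
        change (x + y) - σ (π (x + y)) = (x - σ (π x)) + (y - σ (π y))
        rw [map_add, map_add]; abel)
      map_smul' := fun a x => Subtype.ext (by
        change a • x - σ (π (a • x)) = a • (x - σ (π x))
        rw [map_smul, hred _ hQ a, map_smul, ← hred _ hC a, smul_sub]) }
  refine ⟨φ' ∘ₗ p ∘ₗ l ∘ₗ (TensorProduct.mk A R Ω[A⁄R] 1), fun j => ?_⟩
  have h1 : l (1 ⊗ₜ D R A (j : A)) = e j := by
    have := LinearMap.congr_fun hl (Ideal.toCotangent _ ⟨(j : A), hJI j.2⟩)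
    rw [LinearMap.comp_apply, kerCotangentToTensor_toCotangent] at this
    exact this
  have h2' : π (e j) = 0 := by
    change π (I.toCotangent _) = 0
    rw [hπ, Submodule.mkQ_apply, Submodule.Quotient.mk_eq_zero, Submodule.mem_comap]
    exact Submodule.mem_sup_left j.2
  change φ' (p (l (1 ⊗ₜ D R A (j : A)))) = φ j
  rw [h1, ← hφ' j]
  congr 1
  apply Subtype.ext
  change e j - σ (π (e j)) = e j
  rw [h2', map_zero, sub_zero]

/-- A quotient of a smooth algebra by an ideal inside the kernel of a section is smooth along the section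
if its conormal sequence along the section is split exact. -/
theorem isSmoothAt_quotient [Algebra.Smooth R A] (ε : A →ₐ[R] R) (J : Ideal A)
    (hJI : J ≤ RingHom.ker ε) (h1 : J.FG)
    (h2 : J ⊓ RingHom.ker ε ^ 2 = RingHom.ker ε * J)
    (h3 : Module.Projective R (↥(RingHom.ker ε) ⧸
      Submodule.comap (RingHom.ker ε).subtype (J ⊔ RingHom.ker ε ^ 2)))
    (P : Ideal (A ⧸ J)) [P.IsPrime] (hP : (RingHom.ker ε).map (Ideal.Quotient.mk J) ≤ P) :
    Algebra.IsSmoothAt R P := by
  let Q : Ideal A := P.comap (Ideal.Quotient.mk J)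
  have hIQ : RingHom.ker ε ≤ Q := Ideal.map_le_iff_le_comap.1 hP
  let Pl := Localization.AtPrime Q
  let S := Localization.AtPrime P
  let f : Pl →+* S := Localization.localRingHom Q P (Ideal.Quotient.mk J) rfl
  letI : Algebra Pl S := f.toAlgebra
  have hf : ∀ a : A, algebraMap Pl S (algebraMap A Pl a) =
      algebraMap (A ⧸ J) S (Ideal.Quotient.mk J a) :=
    fun a => Localization.localRingHom_to_map Q P _ rfl a
  haveI : IsScalarTower R Pl S := IsScalarTower.of_algebraMap_eq fun r => by
    rw [IsScalarTower.algebraMap_apply R A Pl, hf,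
      IsScalarTower.algebraMap_apply R (A ⧸ J) S]
    rfl
  haveI : IsScalarTower A Pl S := IsScalarTower.of_algebraMap_eq fun a => by
    rw [hf, IsScalarTower.algebraMap_apply A (A ⧸ J) S]
    rfl
  have hsurj : Function.Surjective (algebraMap Pl S) :=
    RingHom.surjective_localRingHom_of_surjective (Ideal.Quotient.mk J)
      Ideal.Quotient.mk_surjective P
  have hkereq : RingHom.ker (algebraMap Pl S) = J.map (algebraMap A Pl) := by
    apply le_antisymm
    · intro z hz
      obtain ⟨a, s, rfl⟩ := IsLocalization.exists_mk'_eq Q.primeCompl z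
      rw [RingHom.mem_ker] at hz
      change Localization.localRingHom Q P (Ideal.Quotient.mk J) rfl _ = 0 at hz
      rw [Localization.localRingHom_mk', IsLocalization.mk'_eq_zero_iff] at hz
      obtain ⟨⟨t, ht⟩, hta⟩ := hz
      obtain ⟨t', rfl⟩ := Ideal.Quotient.mk_surjective t
      rw [← map_mul, Ideal.Quotient.eq_zero_iff_mem] at hta
      have ht' : t' ∈ Q.primeCompl := ht
      rw [← IsLocalization.mk'_cancel a s ⟨t', ht'⟩, IsLocalization.mk'_eq_mul_mk'_one, mul_comm a]
      exact Ideal.mul_mem_right _ _ (Ideal.mem_map_of_mem _ hta)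
    · rw [Ideal.map_le_iff_le_comap]
      intro j hj
      rw [Ideal.mem_comap, RingHom.mem_ker, hf, Ideal.Quotient.eq_zero_iff_mem.2 hj, map_zero]
  have hfg : (RingHom.ker (algebraMap Pl S)).FG := hkereq ▸ h1.map _
  haveI : Algebra.FormallySmooth A Pl := Algebra.FormallySmooth.of_isLocalization Q.primeCompl
  haveI : Algebra.FormallySmooth R Pl := Algebra.FormallySmooth.comp R A Pl
  haveI : Module.Projective A Ω[A⁄R] := inferInstance
  haveI hbc : IsBaseChange Pl (KaehlerDifferential.map R R A Pl) :=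
    KaehlerDifferential.isBaseChange_of_formallyEtale R A Pl
  haveI : Module.Finite Pl Ω[Pl⁄R] :=
    Module.Finite.equiv hbc.equiv
  haveI : Module.Projective Pl Ω[Pl⁄R] := inferInstance
  haveI : Module.Flat Pl Ω[Pl⁄R] := inferInstance
  haveI : Module.Free Pl Ω[Pl⁄R] := Module.free_of_flat_of_isLocalRing
  change Algebra.FormallySmooth R S
  rw [Algebra.FormallySmooth.iff_injective_cotangentComplexBaseChange_residueField Pl hsurj hfg]
  let k := ResidueField S
  let K := RingHom.ker (algebraMap Pl S)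
  haveI : IsScalarTower A Pl k := IsScalarTower.of_algebraMap_eq fun a => by
    rw [IsScalarTower.algebraMap_apply Pl S k, hf]
    rfl
  have hkQ : ∀ a ∈ Q, algebraMap Pl k (algebraMap A Pl a) = 0 := by
    intro a ha
    rw [IsScalarTower.algebraMap_apply Pl S k, hf]
    exact (residue_eq_zero_iff _).2
      (by rwa [IsLocalization.AtPrime.to_map_mem_maximal_iff S P])
  let φ : J →ₗ[A] k ⊗[Pl] K :=
    { toFun := fun j => 1 ⊗ₜ ⟨algebraMap A Pl j, hkereq.ge (Ideal.mem_map_of_mem _ j.2)⟩
      map_add' := fun x y => by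
        rw [← TensorProduct.tmul_add]
        congr 1
        exact Subtype.ext (map_add _ _ _)
      map_smul' := fun a x => by
        rw [RingHom.id_apply]
        conv_rhs => rw [← algebraMap_smul Pl a, ← TensorProduct.tmul_smul]
        congr 1
        refine Subtype.ext ?_
        change algebraMap A Pl (a • (x : A)) = algebraMap A Pl a * algebraMap A Pl x
        rw [smul_eq_mul, map_mul] }
  obtain ⟨lam, hlam⟩ := exists_ext R A ε J hJI h2 h3 φ (fun a ha t => by
    rw [← algebraMap_smul Pl a, ← algebraMap_smul k (algebraMap A Pl a), hkQ a (hIQ ha), zero_smul])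
  let Lam : Ω[Pl⁄R] →ₗ[Pl] k ⊗[Pl] K := hbc.lift lam
  have hLam : ∀ x ∈ RingHom.ker (algebraMap Pl S), ∀ hx : x ∈ K,
      Lam (D R Pl x) = 1 ⊗ₜ ⟨x, hx⟩ := by
    intro x hx hx'
    have hx2 : x ∈ J.map (algebraMap A Pl) := hkereq ▸ hx
    obtain ⟨⟨⟨j, hj⟩, s⟩, hs⟩ := (IsLocalization.mem_map_algebraMap_iff Q.primeCompl Pl).1 hx2
    simp only at hs
    have hu : IsUnit (algebraMap A Pl s) := IsLocalization.map_units Pl s
    have h4 : Lam (D R Pl (algebraMap A Pl j)) = φ ⟨j, hj⟩ := by
      rw [← KaehlerDifferential.map_D R R A Pl, hbc.lift_eq, hlam ⟨j, hj⟩]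
    rw [← hs, Derivation.leibniz, map_add, map_smul, map_smul] at h4
    have h5 : x • Lam (D R Pl (algebraMap A Pl (s : A))) = 0 := by
      rw [← algebraMap_smul k x, IsScalarTower.algebraMap_apply Pl S k, RingHom.mem_ker.1 hx,
        map_zero, zero_smul]
    rw [h5, zero_add] at h4
    have h6 : φ ⟨j, hj⟩ = algebraMap A Pl (s : A) • (1 ⊗ₜ (⟨x, hx'⟩ : K) : k ⊗[Pl] K) := by
      rw [← TensorProduct.tmul_smul]
      change (1 : k) ⊗ₜ[Pl] (⟨algebraMap A Pl j, _⟩ : K) = _
      congr 1
      refine Subtype.ext ?_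
      change algebraMap A Pl j = algebraMap A Pl (s : A) * x
      rw [← hs, mul_comm]
    exact hu.smul_left_cancel.1 (h4.trans h6)
  let g : k ⊗[Pl] Ω[Pl⁄R] →ₗ[k] k ⊗[Pl] K := Lam.liftBaseChange k
  have hg : g ∘ₗ cotangentComplexBaseChange R S Pl k = LinearMap.id := by
    refine LinearMap.ext fun z => ?_
    induction z with
    | zero => simp
    | add a b ha hb => rw [map_add, map_add, ha, hb]
    | tmul c x =>
      rw [LinearMap.comp_apply, cotangentComplexBaseChange_tmul, map_smul]
      change c • g (1 ⊗ₜ D R Pl (x : Pl)) = _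
      rw [LinearMap.liftBaseChange_tmul, one_smul, hLam _ x.2 x.2, TensorProduct.smul_tmul',
        smul_eq_mul, mul_one]
      rfl
  exact fun a b hab => by
    rw [← LinearMap.id_apply (R := k) a, ← LinearMap.id_apply (R := k) b, ← hg,
      LinearMap.comp_apply, LinearMap.comp_apply, hab]

end Groth.Agent.H14SmSec
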